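import Mathlib.RingTheory.Henselian
import Mathlib.RingTheory.RootsOfUnity.AlgebraicallyClosed
import Mathlib.FieldTheory.IsSepClosed
import Mathlib.RingTheory.Ideal.GoingUp
import Mathlib.Algebra.MonoidAlgebra.Basic
import Mathlib.Algebra.MonoidAlgebra.Module
import Mathlib.RingTheory.Finiteness.Basic
import Mathlib.NumberTheory.LegendreSymbol.AddCharacter
import Mathlib.Data.ZMod.Basic
import Mathlib.FieldTheory.Perfect
import Mathlib.Tactic

/-! # Alternating pairings of `μ_n` over a strictly henselian local ring are trivial -/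

set_option autoImplicit false
set_option linter.style.haveILetI false
universe u

open IsLocalRing MonoidAlgebra

namespace Groth.Agent.MuExt15

variable {R : Type u} [CommRing R] [HenselianLocalRing R] [IsSepClosed (ResidueField R)]
  {n : ℕ} [NeZero n]

local notation "M₁" => Multiplicative (ZMod n)
local notation "A₁" => MonoidAlgebra R (Multiplicative (ZMod n))

/-- The point of `μ_n` given by an `n`-th root of unity. -/
noncomputable def rootChar {B : Type u} [CommRing B] (ζ : B) (h : ζ ^ n = 1) : M₁ →* B :=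
  (AddChar.zmodChar n h).toMonoidHom

theorem rootChar_apply {B : Type u} [CommRing B] (ζ : B) (h : ζ ^ n = 1) (j : ZMod n) :
    rootChar ζ h (Multiplicative.ofAdd j) = ζ ^ j.val := rfl

/-- `n = q^a m` with `m` invertible in the residue field, together with a primitive `m`-th root of
unity lifted to `R`. -/
theorem exists_root (R : Type u) [CommRing R] [HenselianLocalRing R] [IsSepClosed (ResidueField R)]
    (n : ℕ) [NeZero n] : ∃ (q a m : ℕ) (η : R), ExpChar (ResidueField R) q ∧ n = q ^ a * m ∧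
      Nat.Coprime (q ^ a) m ∧ η ^ m = 1 ∧ IsPrimitiveRoot (residue R η) m := by
  let k := ResidueField R
  obtain ⟨q, hq⟩ := ExpChar.exists k
  haveI := hq
  obtain ⟨a, m, hn, hcop, hm⟩ : ∃ a m : ℕ, n = q ^ a * m ∧ Nat.Coprime (q ^ a) m ∧ (m : k) ≠ 0 := by
    rcases hq with ⟨_⟩ | ⟨hp, hch⟩
    · exact ⟨0, n, by simp, by simp, Nat.cast_ne_zero.2 (NeZero.ne n)⟩
    · obtain ⟨a, m, hm, rfl⟩ := Nat.exists_eq_pow_mul_and_not_dvd (NeZero.ne n) q hp.ne_one
      exact ⟨a, m, rfl, Nat.Coprime.pow_left _ (hp.coprime_iff_not_dvd.2 hm),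
        fun h => hm ((CharP.cast_eq_zero_iff k q m).1 h)⟩
  have hm0 : m ≠ 0 := fun h => hm (by rw [h, Nat.cast_zero])
  haveI : NeZero m := ⟨hm0⟩
  haveI : NeZero (m : k) := ⟨hm⟩
  obtain ⟨η₀, hη₀⟩ := HasEnoughRootsOfUnity.exists_primitiveRoot k m
  obtain ⟨a₀, ha₀⟩ := residue_surjective η₀
  obtain ⟨η, hη, hηa⟩ := HenselianLocalRing.is_henselian (Polynomial.X ^ m - Polynomial.C (1 : R))
    (Polynomial.monic_X_pow_sub_C 1 hm0) a₀
    (by
      rw [← residue_eq_zero_iff]
      simp [ha₀, hη₀.pow_eq_one])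
    (by
      rw [Polynomial.derivative_sub, Polynomial.derivative_C, sub_zero, Polynomial.derivative_X_pow,
        Polynomial.eval_mul, Polynomial.eval_C, Polynomial.eval_pow, Polynomial.eval_X,
        ← residue_ne_zero_iff_isUnit, map_mul, map_pow, map_natCast, ha₀]
      exact mul_ne_zero hm (pow_ne_zero _ (hη₀.ne_zero hm0)))
  rw [← residue_eq_zero_iff, map_sub, sub_eq_zero, ha₀] at hηa
  exact ⟨q, a, m, η, hq, hn, hcop, by simpa [Polynomial.IsRoot.def, sub_eq_zero] using hη, hηa ▸ hη₀⟩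

/-- An idempotent of `R[ℤ/n]` vanishing at the lifted roots of unity is zero. -/
theorem eq_zero_of_isIdempotentElem {q a m : ℕ} [ExpChar (ResidueField R) q] (hn : n = q ^ a * m) {η : R}
    (hη : η ^ m = 1) (hηp : IsPrimitiveRoot (residue R η) m) (f : A₁) (hf : IsIdempotentElem f)
    (h : ∀ (s : ℕ) (hs : (η ^ s) ^ n = 1), MonoidAlgebra.lift R R M₁ (rootChar (η ^ s) hs) f = 0) :
    f = 0 := by
  classical
  by_contra hne
  have hnu : ¬ IsUnit (1 - f) := fun hu => hne (by
    have : (1 - f) * f = 0 := by rw [sub_mul, one_mul, hf.eq, sub_self]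
    exact hu.mul_right_eq_zero.1 this)
  obtain ⟨Q, hQ, hfQ⟩ := exists_max_ideal_of_mem_nonunits hnu
  haveI := hQ
  haveI : Module.Finite R A₁ := Module.Finite.of_basis (MonoidAlgebra.basis _ R)
  have hcomap : Q.comap (algebraMap R A₁) = maximalIdeal R :=
    IsLocalRing.eq_maximalIdeal (Ideal.isMaximal_comap_of_isIntegral_of_isMaximal Q)
  letI : Field (A₁ ⧸ Q) := Ideal.Quotient.field Q
  let g : ResidueField R →+* A₁ ⧸ Q :=
    Ideal.Quotient.lift (maximalIdeal R) ((Ideal.Quotient.mk Q).comp (algebraMap R A₁)) fun r hr => by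
      rw [← hcomap] at hr
      exact Ideal.Quotient.eq_zero_iff_mem.2 hr
  haveI : ExpChar (A₁ ⧸ Q) q := expChar_of_injective_ringHom g.injective q
  set x := Ideal.Quotient.mk Q (MonoidAlgebra.of R M₁ (Multiplicative.ofAdd 1)) with hx
  have hxn : x ^ n = 1 := by
    rw [hx, ← map_pow, ← map_pow, ← ofAdd_nsmul, nsmul_one, ZMod.natCast_self, ofAdd_zero, map_one, map_one]
  have hxm : x ^ m = 1 := iterateFrobenius_inj (A₁ ⧸ Q) q a (by
    rw [iterateFrobenius_def, iterateFrobenius_def, one_pow, ← pow_mul, mul_comm, ← hn, hxn])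
  haveI : NeZero m := ⟨fun h0 => NeZero.ne n (by rw [hn, h0, mul_zero])⟩
  obtain ⟨s, -, hs⟩ := (hηp.map_of_injective g.injective).eq_pow_of_pow_eq_one hxm
  have hsn : (η ^ s) ^ n = 1 := by
    rw [hn, ← pow_mul, show s * (q ^ a * m) = m * (s * q ^ a) by ring, pow_mul, hη, one_pow]
  have hhom : ((Ideal.Quotient.mk Q).comp (algebraMap R A₁)).comp
      (MonoidAlgebra.lift R R M₁ (rootChar (η ^ s) hsn)).toRingHom = Ideal.Quotient.mk Q := by
    refine MonoidAlgebra.ringHom_ext (fun r => ?_) fun b => ?_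
    · simp [rootChar, MonoidAlgebra.coe_algebraMap]
      rfl
    · have hb : b = Multiplicative.ofAdd (1 : ZMod n) ^ b.toAdd.val := by
        rw [← ofAdd_nsmul, nsmul_one, ZMod.natCast_zmod_val]
        rfl
      show Ideal.Quotient.mk Q (algebraMap R A₁ (MonoidAlgebra.lift R R M₁ (rootChar (η ^ s) hsn)
        (MonoidAlgebra.of R M₁ b))) = Ideal.Quotient.mk Q (MonoidAlgebra.of R M₁ b)
      rw [MonoidAlgebra.lift_of]
      conv_rhs => rw [hb, map_pow, map_pow, ← hx, ← hs]
      rw [show rootChar (η ^ s) hsn b = (η ^ s) ^ b.toAdd.val from rfl, map_pow, map_pow, map_pow, map_pow]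
      rfl
  have : Ideal.Quotient.mk Q f = 0 := by
    rw [← hhom]
    simp [h s hsn]
  rw [Ideal.Quotient.eq_zero_iff_mem] at this
  exact hQ.ne_top ((Ideal.eq_top_iff_one _).2 (by simpa using Q.add_mem hfQ this))

set_option maxHeartbeats 1000000 in
/-- A natural bimultiplicative alternating pairing of `μ_n` with values in `𝔾_m` is trivial. -/
theorem pairing_eq_one
    (W : ∀ (B : Type u) [CommRing B] [Algebra R B], (M₁ →* B) → (M₁ →* B) → B)
    (hnat : ∀ (B B' : Type u) [CommRing B] [Algebra R B] [CommRing B'] [Algebra R B'] (h : B →ₐ[R] B')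
      (χ ψ : M₁ →* B), W B' ((h : B →* B').comp χ) ((h : B →* B').comp ψ) = h (W B χ ψ))
    (hl : ∀ (B : Type u) [CommRing B] [Algebra R B] (χ χ' ψ : M₁ →* B), W B (χ * χ') ψ = W B χ ψ * W B χ' ψ)
    (hr : ∀ (B : Type u) [CommRing B] [Algebra R B] (χ ψ ψ' : M₁ →* B), W B χ (ψ * ψ') = W B χ ψ * W B χ ψ')
    (hl1 : ∀ (B : Type u) [CommRing B] [Algebra R B] (ψ : M₁ →* B), W B 1 ψ = 1)
    (hr1 : ∀ (B : Type u) [CommRing B] [Algebra R B] (χ : M₁ →* B), W B χ 1 = 1)
    (halt : ∀ (B : Type u) [CommRing B] [Algebra R B] (χ : M₁ →* B), W B χ χ = 1)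
    (B : Type u) [CommRing B] [Algebra R B] (χ ψ : M₁ →* B) : W B χ ψ = 1 := by
  classical
  let Bu := MonoidAlgebra A₁ M₁
  let u₀ : M₁ →* Bu := ((algebraMap A₁ Bu).toMonoidHom).comp (MonoidAlgebra.of R M₁)
  let v₀ : M₁ →* Bu := MonoidAlgebra.of A₁ M₁
  set f := W Bu u₀ v₀ with hf
  let e : M₁ → A₁ := fun j => f.coeff j
  have hfsum : f = ∑ j, MonoidAlgebra.single j (e j) := by
    conv_lhs => rw [← MonoidAlgebra.sum_single f]
    exact Finsupp.sum_fintype _ _ fun _ => MonoidAlgebra.single_zero _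
  -- universality
  have huniv : ∀ (B : Type u) [CommRing B] [Algebra R B] (χ ψ : M₁ →* B),
      W B χ ψ = ∑ j, MonoidAlgebra.lift R B M₁ χ (e j) * ψ j := by
    intro B _ _ χ ψ
    letI : Algebra A₁ B := (MonoidAlgebra.lift R B M₁ χ).toRingHom.toAlgebra
    haveI : IsScalarTower R A₁ B := IsScalarTower.of_algebraMap_eq fun r =>
      ((MonoidAlgebra.lift R B M₁ χ).commutes r).symm
    let Φ : Bu →ₐ[R] B := (MonoidAlgebra.lift A₁ B M₁ ψ).restrictScalars R
    have h1 : (Φ : Bu →* B).comp u₀ = χ := by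
      refine MonoidHom.ext fun b => ?_
      show MonoidAlgebra.lift A₁ B M₁ ψ (algebraMap A₁ Bu (MonoidAlgebra.of R M₁ b)) = χ b
      rw [AlgHom.commutes]
      exact MonoidAlgebra.lift_of χ b
    have h2 : (Φ : Bu →* B).comp v₀ = ψ := MonoidHom.ext fun b => MonoidAlgebra.lift_of ψ b
    conv_lhs => rw [← h1, ← h2, hnat]
    rw [← hf, hfsum, map_sum]
    refine Finset.sum_congr rfl fun j _ => ?_
    show MonoidAlgebra.lift A₁ B M₁ ψ (MonoidAlgebra.single j (e j)) = _
    rw [MonoidAlgebra.lift_single, Algebra.smul_def]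
    rfl
  -- orthogonal idempotents
  have horth : ∀ i j, e i * e j = if i = j then e i else 0 := by
    intro i j
    let χ₂ : M₁ →* (MonoidAlgebra A₁ (M₁ × M₁)) := ((algebraMap A₁ (MonoidAlgebra A₁ (M₁ × M₁))).toMonoidHom).comp (MonoidAlgebra.of R M₁)
    have hlift : MonoidAlgebra.lift R (MonoidAlgebra A₁ (M₁ × M₁)) M₁ χ₂ = IsScalarTower.toAlgHom R A₁ (MonoidAlgebra A₁ (M₁ × M₁)) :=
      (MonoidAlgebra.lift R (MonoidAlgebra A₁ (M₁ × M₁)) M₁).symm.injective (MonoidHom.ext fun b => by simp [χ₂])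
    have hW : ∀ ρ : M₁ →* M₁ × M₁, W (MonoidAlgebra A₁ (M₁ × M₁)) χ₂ ((MonoidAlgebra.of A₁ (M₁ × M₁)).comp ρ)
        = ∑ l, MonoidAlgebra.single (ρ l) (e l) := by
      intro ρ
      rw [huniv, hlift]
      refine Finset.sum_congr rfl fun l _ => ?_
      show algebraMap A₁ (MonoidAlgebra A₁ (M₁ × M₁)) (e l) * MonoidAlgebra.single (ρ l) 1 = _
      rw [MonoidAlgebra.coe_algebraMap]
      simp only [Function.comp_apply, Algebra.algebraMap_self, RingHom.id_apply]
      rw [MonoidAlgebra.single_mul_single, one_mul, mul_one]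
    have h := hr (MonoidAlgebra A₁ (M₁ × M₁)) χ₂ ((MonoidAlgebra.of A₁ (M₁ × M₁)).comp (MonoidHom.inl M₁ M₁))
      ((MonoidAlgebra.of A₁ (M₁ × M₁)).comp (MonoidHom.inr M₁ M₁))
    rw [show (MonoidAlgebra.of A₁ (M₁ × M₁)).comp (MonoidHom.inl M₁ M₁) *
        (MonoidAlgebra.of A₁ (M₁ × M₁)).comp (MonoidHom.inr M₁ M₁) =
        (MonoidAlgebra.of A₁ (M₁ × M₁)).comp ((MonoidHom.id M₁).prod (MonoidHom.id M₁)) from
      MonoidHom.ext fun b => by simp [← map_mul],
      hW, hW, hW, Finset.sum_mul_sum] at h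
    simp only [MonoidAlgebra.single_mul_single] at h
    have h' := congrArg (fun x : (MonoidAlgebra A₁ (M₁ × M₁)) => x.coeff (i, j)) h
    simp only [MonoidAlgebra.coeff_sum, Finset.sum_apply', MonoidAlgebra.coeff_single, Finsupp.single_apply,
      MonoidHom.prod_apply, MonoidHom.id_apply, MonoidHom.inl_apply, MonoidHom.inr_apply, Prod.mk_mul_mk,
      one_mul, mul_one, Prod.mk.injEq] at h'
    simp [ite_and, Finset.sum_ite_eq', eq_comm] at h'
    exact h'.symm
  have hsum : ∑ j, e j = 1 := by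
    have h := huniv A₁ (MonoidAlgebra.of R M₁) 1
    rw [hr1] at h
    rw [show MonoidAlgebra.lift R A₁ M₁ (MonoidAlgebra.of R M₁) = AlgHom.id R A₁ from
      (MonoidAlgebra.lift R A₁ M₁).symm.injective (MonoidHom.ext fun b => by simp)] at h
    simpa using h.symm
  -- the value at the roots of unity
  obtain ⟨q, a, m, η, hq, hn, hcop, hη, hηp⟩ := exists_root R n
  haveI := hq
  have hηn : η ^ n = 1 := by rw [hn, mul_comm, pow_mul, hη, one_pow]
  set χ₁ := rootChar η hηn with hχ₁
  let φ : A₁ →ₐ[R] R := MonoidAlgebra.lift R R M₁ χ₁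
  obtain ⟨i, hi⟩ : ∃ i, φ (e i) = 1 := by
    by_contra hno
    rw [not_exists] at hno
    have hz : ∀ i, φ (e i) = 0 := fun i => by
      have hid : IsIdempotentElem (φ (e i)) := by
        have h' := horth i i
        rw [if_pos rfl] at h'
        exact (show IsIdempotentElem (e i) from h').map φ
      rcases IsLocalRing.isUnit_or_isUnit_one_sub_self (φ (e i)) with hu | hu
      · exact absurd (hu.mul_left_cancel (hid.eq.trans (_root_.mul_one _).symm)) (hno i)
      · exact hu.mul_right_eq_zero.1 (by rw [sub_mul, one_mul, hid.eq, sub_self])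
    have := congrArg φ hsum
    simp [map_sum, hz] at this
  have hval : ∀ j, φ (e j) = if j = i then 1 else 0 := by
    intro j
    split_ifs with h
    · rw [h, hi]
    · have h' := horth j i
      rw [if_neg h] at h'
      simpa [map_mul, hi] using congrArg φ h'
  -- the universal second variable over R
  let cst : M₁ →* A₁ := (algebraMap R A₁).toMonoidHom.comp χ₁
  have hcst : ∀ (χ : M₁ →* R) (x : A₁), MonoidAlgebra.lift R A₁ M₁ ((algebraMap R A₁).toMonoidHom.comp χ) x
      = algebraMap R A₁ (MonoidAlgebra.lift R R M₁ χ x) := by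
    intro χ x
    refine DFunLike.congr_fun ((MonoidAlgebra.lift R A₁ M₁).symm.injective (?_ : _ =
      (MonoidAlgebra.lift R A₁ M₁).symm ((Algebra.ofId R A₁).comp (MonoidAlgebra.lift R R M₁ χ)))) x
    refine MonoidHom.ext fun b => ?_
    simp
  have hW₁ : W A₁ cst (MonoidAlgebra.of R M₁) = MonoidAlgebra.single i 1 := by
    rw [huniv, Finset.sum_eq_single i (fun j _ hj => by rw [hcst, hval, if_neg hj, map_zero, zero_mul])
      (by simp), hcst, hval, if_pos rfl, map_one, one_mul]
    rfl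
  have hpow : ∀ s : ℕ, W A₁ (cst ^ s) (MonoidAlgebra.of R M₁) = MonoidAlgebra.single (i ^ s) 1 := by
    intro s
    induction s with
    | zero => rw [pow_zero, pow_zero, hl1]; rfl
    | succ s ih => rw [pow_succ, pow_succ, hl, ih, hW₁, MonoidAlgebra.single_mul_single, one_mul]
  have hm1 : i ^ m = 1 := by
    have hc : cst ^ m = 1 := MonoidHom.ext fun b => by
      show (algebraMap R A₁ (η ^ (b.toAdd).val)) ^ m = 1
      rw [← map_pow, ← pow_mul, mul_comm, pow_mul, hη, one_pow, map_one]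
    have h := hpow m
    rw [hc, hl1] at h
    exact (MonoidAlgebra.single_left_injective one_ne_zero h).symm
  have hi1 : i = 1 := by
    have h := halt R χ₁
    rw [huniv, Finset.sum_eq_single i (fun j _ hj => by
      show φ (e j) * _ = 0
      rw [hval, if_neg hj, zero_mul]) (by simp)] at h
    rw [show MonoidAlgebra.lift R R M₁ χ₁ (e i) = 1 from hi, one_mul] at h
    have hd : m ∣ i.toAdd.val := by
      refine hηp.dvd_of_pow_eq_one _ ?_
      rw [← map_pow, show η ^ i.toAdd.val = 1 from h, map_one]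
    have hd' : n ∣ m * i.toAdd.val := by
      rw [← ZMod.natCast_eq_zero_iff, Nat.cast_mul, ZMod.natCast_zmod_val]
      have h' := congrArg Multiplicative.toAdd hm1
      rwa [toAdd_pow, toAdd_one, nsmul_eq_mul] at h'
    have hd'' : q ^ a ∣ i.toAdd.val := hcop.dvd_of_dvd_mul_left (dvd_trans (Dvd.intro m hn.symm) hd')
    have h3 : n ∣ i.toAdd.val := (dvd_of_eq hn).trans (hcop.mul_dvd_of_dvd_of_dvd hd'' hd)
    refine Multiplicative.toAdd.injective ?_
    show i.toAdd = 0
    rw [← ZMod.natCast_zmod_val i.toAdd, (ZMod.natCast_eq_zero_iff _ _).2 h3]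
  have hzero : ∀ j, j ≠ 1 → e j = 0 := by
    intro j hj
    have hid : IsIdempotentElem (e j) := by
      have h' := horth j j
      rw [if_pos rfl] at h'
      exact h'
    refine eq_zero_of_isIdempotentElem hn hη hηp _ hid fun s hs => ?_
    have hc : (algebraMap R A₁).toMonoidHom.comp (rootChar (η ^ s) hs) = cst ^ s := MonoidHom.ext fun b => by
      show algebraMap R A₁ ((η ^ s) ^ b.toAdd.val) = (algebraMap R A₁ (η ^ b.toAdd.val)) ^ s
      rw [← map_pow, ← pow_mul, ← pow_mul, mul_comm]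
    have h := hpow s
    rw [hi1, one_pow, huniv, ← hc] at h
    have h' := congrArg (fun x : A₁ => x.coeff j) h
    simp only [hcst, MonoidAlgebra.coeff_sum, Finset.sum_apply', MonoidAlgebra.coe_algebraMap,
      Function.comp_apply, MonoidAlgebra.of_apply, MonoidAlgebra.single_mul_single, one_mul, mul_one,
      MonoidAlgebra.coeff_single, Finsupp.single_apply, Algebra.algebraMap_self, RingHom.id_apply] at h'
    rw [if_neg (Ne.symm hj), Finset.sum_ite_eq', if_pos (Finset.mem_univ _)] at h'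
    exact h'
  rw [huniv]
  have he1 : e 1 = 1 := by
    rw [← hsum]
    exact (Finset.sum_eq_single 1 (fun j _ hj => hzero j hj) (by simp)).symm
  rw [Finset.sum_eq_single 1 (fun j _ hj => by rw [hzero j hj, map_zero, zero_mul]) (by simp), he1]
  simp

end Groth.Agent.MuExt15
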