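import Groth.Prelude.Def_AlgGrp
import Groth.Agent.Lib.Desc.Over
import Mathlib.GroupTheory.Commutator.Basic
import Mathlib.Tactic.Group

/-! # The commutator pairing of a central extension -/

set_option autoImplicit false
set_option linter.style.haveILetI false
set_option backward.isDefEq.respectTransparency.types false
universe u

open CategoryTheory Limits MonoidalCategory CartesianMonoidalCategory MonObj AlgebraicGeometry

noncomputable section

namespace Groth.Agent.MuExt15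

variable {S : Scheme.{u}} {E M N : Over S} [GrpObj E] [GrpObj M] [GrpObj N]

set_option maxHeartbeats 1000000 in
/-- The commutator pairing of a central extension of commutative groups. -/
theorem exists_commutator_pairing (i : N ⟶ E) [IsMonHom i] (q : E ⟶ M) [IsMonHom q]
    (hker : AlgGrp.IsKernel i q) (hcov : Desc.IsCover q)
    (hcent : ∀ (T : Over S) (g : T ⟶ E) (t : T ⟶ N), g * (t ≫ i) = (t ≫ i) * g)
    (hM : ∀ {T : Over S} (x y : T ⟶ M), Commute x y) (hN : ∀ {T : Over S} (x y : T ⟶ N), Commute x y) :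
    ∃ c : M ⊗ M ⟶ N,
      (∀ {X : Over S} (x x' y : X ⟶ M), lift (x * x') y ≫ c = (lift x y ≫ c) * (lift x' y ≫ c)) ∧
      (∀ {X : Over S} (x y y' : X ⟶ M), lift x (y * y') ≫ c = (lift x y ≫ c) * (lift x y' ≫ c)) ∧
      (∀ {X : Over S} (y : X ⟶ M), lift 1 y ≫ c = 1) ∧ (∀ {X : Over S} (x : X ⟶ M), lift x 1 ≫ c = 1) ∧
      (∀ {X : Over S} (x : X ⟶ M), lift x x ≫ c = 1) ∧
      ∀ {X : Over S} (g h : X ⟶ E), lift (g ≫ q) (h ≫ q) ≫ c ≫ i = g * h * g⁻¹ * h⁻¹ := by
  classical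
  -- the commutator lands in the kernel
  have hsplit : ∀ (X : Over S) (z : X ⟶ E), z ≫ q = 1 → ∃ t, t ≫ i = z := by
    intro X z hz
    exact ⟨hker.lift z (toUnit X) (by rw [hz, Hom.one_def]), hker.lift_fst _ _ _⟩
  have hcen : ∀ (X : Over S) (z : X ⟶ E), z ≫ q = 1 → ∀ w : X ⟶ E, z * w = w * z := by
    intro X z hz w
    obtain ⟨t, rfl⟩ := hsplit X z hz
    exact (hcent X w t).symm
  haveI : Mono i := ⟨fun {Z} a b e => hker.hom_ext e (toUnit_unique _ _)⟩
  have hcm : ∀ (X : Over S) (a b : X ⟶ E), (a * b * a⁻¹ * b⁻¹) ≫ q = 1 := by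
    intro X a b
    rw [MonObj.mul_comp, MonObj.mul_comp, MonObj.mul_comp, GrpObj.inv_comp, GrpObj.inv_comp,
      (hM (a ≫ q) (b ≫ q)).eq, mul_inv_cancel_right, mul_inv_cancel]
  let p : E ⊗ E ⟶ M ⊗ M := lift (fst E E ≫ q) (snd E E ≫ q)
  have hp : p = (E ◁ q) ≫ (q ▷ M) :=
    CartesianMonoidalCategory.hom_ext _ _ (by simp [p]) (by simp [p])
  have hcovp : Desc.IsCover p := by
    have h1 : IsPullback (snd E E).left (E ◁ q).left q.left (snd E (M)).left := by
      refine IsPullback.of_bot (v₂₁ := (fst E (M)).left) (v₂₂ := (M).hom)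
        (h₃₁ := E.hom) ?_
        (by rw [← Over.comp_left, ← Over.comp_left, whiskerLeft_snd]) (IsPullback.of_hasPullback E.hom _).flip
      rw [← Over.comp_left, whiskerLeft_fst, Over.w q]
      exact (IsPullback.of_hasPullback E.hom E.hom).flip
    have h2 : IsPullback (fst E (M)).left (q ▷ M).left q.left
        (fst (M) (M)).left := by
      refine IsPullback.of_bot (v₂₁ := (snd (M) (M)).left)
        (v₂₂ := (M).hom) (h₃₁ := (M).hom) ?_ ?_ ?_
      · rw [← Over.comp_left, whiskerRight_snd, Over.w]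
        exact IsPullback.of_hasPullback E.hom _
      · rw [← Over.comp_left, ← Over.comp_left, whiskerRight_fst]
      · exact IsPullback.of_hasPullback _ _
    obtain ⟨_, _, _⟩ := hcov
    rw [hp]
    refine Desc.IsCover.comp ⟨?_, ?_, ?_⟩ ⟨?_, ?_, ?_⟩
    · exact MorphismProperty.of_isPullback (P := @Surjective) h1 inferInstance
    · exact MorphismProperty.of_isPullback (P := @Flat) h1 inferInstance
    · exact MorphismProperty.of_isPullback (P := @LocallyOfFinitePresentation) h1 inferInstance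
    · exact MorphismProperty.of_isPullback (P := @Surjective) h2 inferInstance
    · exact MorphismProperty.of_isPullback (P := @Flat) h2 inferInstance
    · exact MorphismProperty.of_isPullback (P := @LocallyOfFinitePresentation) h2 inferInstance
  obtain ⟨f₀, hf₀⟩ := hsplit _ (fst E E * snd E E * (fst E E)⁻¹ * (snd E E)⁻¹) (hcm _ _ _)
  obtain ⟨c, hc, -⟩ := hcovp.descend f₀ fun T x y e => by
    rw [← cancel_mono i, Category.assoc, Category.assoc, hf₀]
    have e1 : (x ≫ fst E E) ≫ q = (y ≫ fst E E) ≫ q := by simpa [p] using congrArg (· ≫ fst _ _) e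
    have e2 : (x ≫ snd E E) ≫ q = (y ≫ snd E E) ≫ q := by simpa [p] using congrArg (· ≫ snd _ _) e
    simp only [MonObj.comp_mul, GrpObj.comp_inv]
    generalize x ≫ fst E E = a at e1 ⊢
    generalize y ≫ fst E E = a' at e1 ⊢
    generalize x ≫ snd E E = b at e2 ⊢
    generalize y ≫ snd E E = b' at e2 ⊢
    obtain ⟨z, rfl⟩ : ∃ z, a = a' * z := ⟨a'⁻¹ * a, (mul_inv_cancel_left _ _).symm⟩
    obtain ⟨w, rfl⟩ : ∃ w, b = b' * w := ⟨b'⁻¹ * b, (mul_inv_cancel_left _ _).symm⟩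
    have hz : z ≫ q = 1 := by rw [MonObj.mul_comp] at e1; exact mul_eq_left.1 e1
    have hw : w ≫ q = 1 := by rw [MonObj.mul_comp] at e2; exact mul_eq_left.1 e2
    have hz' := hcen T z hz
    have hw' := hcen T w hw
    calc (a' * z) * (b' * w) * (a' * z)⁻¹ * (b' * w)⁻¹
        = a' * (z * b') * (w * z⁻¹) * a'⁻¹ * w⁻¹ * b'⁻¹ := by group
      _ = a' * (b' * z) * (z⁻¹ * w) * a'⁻¹ * w⁻¹ * b'⁻¹ := by rw [hz' b', hw' z⁻¹]
      _ = a' * b' * (w * a'⁻¹) * w⁻¹ * b'⁻¹ := by group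
      _ = a' * b' * (a'⁻¹ * w) * w⁻¹ * b'⁻¹ := by rw [hw' a'⁻¹]
      _ = _ := by group
  have hpt : ∀ {X : Over S} (a b : X ⟶ E),
      lift (a ≫ q) (b ≫ q) ≫ c ≫ i = a * b * a⁻¹ * b⁻¹ := fun a b => by
    rw [show lift (a ≫ q) (b ≫ q) = lift a b ≫ p by simp [p, comp_lift], Category.assoc, reassoc_of% hc, hf₀]
    simp [MonObj.comp_mul, GrpObj.comp_inv]
  -- bimultiplicative alternating
  have hlm : ∀ {X : Over S} (x x' y : X ⟶ M),
      lift (x * x') y ≫ c = (lift x y ≫ c) * (lift x' y ≫ c) := by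
    intro X x x' y
    obtain ⟨T₁, π₁, a, a', h₁, ea, ea'⟩ := hcov.exists_lift₂ x x'
    obtain ⟨T₂, π₂, b, h₂, eb⟩ := hcov.exists_lift (π₁ ≫ y)
    haveI := (h₂.comp h₁).epi
    rw [← cancel_epi (π₂ ≫ π₁), ← cancel_mono i]
    simp only [MonObj.comp_mul, MonObj.mul_comp, comp_lift_assoc, Category.assoc]
    rw [← ea, ← ea', ← eb, ← Category.assoc π₂ a q, ← Category.assoc π₂ a' q, ← MonObj.mul_comp, hpt, hpt, hpt]
    set a₁ := π₂ ≫ a
    set a₂ := π₂ ≫ a'
    have hk := hcen T₂ (a₂ * b * a₂⁻¹ * b⁻¹) (hcm _ _ _)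
    calc a₁ * a₂ * b * (a₁ * a₂)⁻¹ * b⁻¹
        = a₁ * ((a₂ * b * a₂⁻¹ * b⁻¹) * (b * a₁⁻¹ * b⁻¹)) := by group
      _ = a₁ * ((b * a₁⁻¹ * b⁻¹) * (a₂ * b * a₂⁻¹ * b⁻¹)) := by rw [hk]
      _ = _ := by group
  have hanti : ∀ {X : Over S} (x y : X ⟶ M),
      lift x y ≫ c = (lift y x ≫ c)⁻¹ := by
    intro X x y
    obtain ⟨T₁, π₁, a, b, h₁, ea, eb⟩ := hcov.exists_lift₂ x y
    haveI := h₁.epi
    rw [← cancel_epi π₁, ← cancel_mono i]
    simp only [GrpObj.comp_inv, GrpObj.inv_comp, comp_lift_assoc, Category.assoc]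
    rw [← ea, ← eb, hpt, hpt]
    group
  have hrm : ∀ {X : Over S} (x y y' : X ⟶ M),
      lift x (y * y') ≫ c = (lift x y ≫ c) * (lift x y' ≫ c) := by
    intro X x y y'
    rw [hanti, hlm, _root_.mul_inv_rev, ← hanti, ← hanti, (hN _ _).eq]
  have halt : ∀ {X : Over S} (x : X ⟶ M), lift x x ≫ c = 1 := by
    intro X x
    obtain ⟨T₁, π₁, a, h₁, ea⟩ := hcov.exists_lift x
    haveI := h₁.epi
    rw [← cancel_epi π₁, ← cancel_mono i]
    simp only [MonObj.comp_one, MonObj.one_comp, comp_lift_assoc, Category.assoc]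
    rw [← ea, hpt]
    group
  have hone : ∀ {X : Over S} (y : X ⟶ M), lift 1 y ≫ c = 1 := by
    intro X y
    have h := hlm (1 : X ⟶ M) 1 y
    rw [_root_.one_mul] at h
    exact left_eq_mul.1 h
  exact ⟨c, hlm, hrm, hone, fun x => by rw [hanti, hone, inv_one], halt, hpt⟩

end Groth.Agent.MuExt15
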