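import Groth.Agent.Lib.MuExt15.Alg
import Groth.Agent.Lib.DiagGL.Chars
import Groth.Agent.Lib.TorPts21.Torus
import Groth.Agent.Lib.Desc.Over

/-! # Bimultiplicative alternating morphisms `μ_n × μ_n → 𝔾_m` over a strictly henselian base -/

set_option autoImplicit false
set_option linter.style.haveILetI false
set_option backward.isDefEq.respectTransparency.types false
universe u

open CategoryTheory MonoidalCategory CartesianMonoidalCategory MonObj AlgebraicGeometry

noncomputable section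

namespace Groth.Agent.MuExt15

open DiagGL

variable {R : Type u} [CommRing R] {n : ℕ}

/-- A point of `μ_n` with values in an algebra. -/
def P {B : Type u} [CommRing B] [Algebra R B] (χ : Multiplicative (ZMod n) →* B) :
    CoactBr.sp R B ⟶ Red.diag R (ZMod n) :=
  CoactBr.pt (MonoidAlgebra.lift R B (Multiplicative (ZMod n)) χ)

theorem ch_P {B : Type u} [CommRing B] [Algebra R B] (χ : Multiplicative (ZMod n) →* B) (b) :
    (charsDiag R (ZMod n)).ch (P χ) b = (Scheme.ΓSpecIso (CommRingCat.of B)).inv (χ b) := by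
  show ev (T := CoactBr.sp R B) (A := MonoidAlgebra R (Multiplicative (ZMod n)))
    (CoactBr.pt (MonoidAlgebra.lift R B (Multiplicative (ZMod n)) χ)) (MonoidAlgebra.of R _ b) = _
  rw [ev_pt, MonoidAlgebra.lift_of]

theorem P_mul {B : Type u} [CommRing B] [Algebra R B] (χ ψ : Multiplicative (ZMod n) →* B) :
    P (χ * ψ) = P (R := R) χ * P ψ :=
  (charsDiag R (ZMod n)).inj fun b => by
    rw [(charsDiag R (ZMod n)).mul, ch_P, ch_P, ch_P, MonoidHom.mul_apply]
    exact map_mul _ _ _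

theorem P_one {B : Type u} [CommRing B] [Algebra R B] : P (1 : Multiplicative (ZMod n) →* B) = (1 : _ ⟶ Red.diag R (ZMod n)) :=
  (charsDiag R (ZMod n)).inj fun b => by
    rw [(charsDiag R (ZMod n)).one, ch_P, MonoidHom.one_apply]
    exact map_one _

theorem P_comp {B B' : Type u} [CommRing B] [Algebra R B] [CommRing B'] [Algebra R B'] (h : B →ₐ[R] B')
    (χ : Multiplicative (ZMod n) →* B) : P ((h : B →* B').comp χ) = CoactBr.pt h ≫ P χ := by
  show CoactBr.pt _ = CoactBr.pt h ≫ CoactBr.pt _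
  rw [← CoactBr.pt_comp]
  refine congrArg CoactBr.pt ((MonoidAlgebra.lift R B' _).symm.injective (MonoidHom.ext fun b => ?_))
  simp

/-- A bimultiplicative alternating morphism `μ_n × μ_n → 𝔾_m` is trivial. -/
theorem pairing_trivial [HenselianLocalRing R] [IsSepClosed (IsLocalRing.ResidueField R)] [NeZero n]
    (c : Red.diag R (ZMod n) ⊗ Red.diag R (ZMod n) ⟶ Red.diag R ℤ)
    (hl : ∀ {X : Over (Spec (CommRingCat.of R))} (x x' y : X ⟶ Red.diag R (ZMod n)),
      lift (x * x') y ≫ c = (lift x y ≫ c) * (lift x' y ≫ c))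
    (hr : ∀ {X : Over (Spec (CommRingCat.of R))} (x y y' : X ⟶ Red.diag R (ZMod n)),
      lift x (y * y') ≫ c = (lift x y ≫ c) * (lift x y' ≫ c))
    (hl1 : ∀ {X : Over (Spec (CommRingCat.of R))} (y : X ⟶ Red.diag R (ZMod n)), lift 1 y ≫ c = 1)
    (hr1 : ∀ {X : Over (Spec (CommRingCat.of R))} (x : X ⟶ Red.diag R (ZMod n)), lift x 1 ≫ c = 1)
    (halt : ∀ {X : Over (Spec (CommRingCat.of R))} (x : X ⟶ Red.diag R (ZMod n)), lift x x ≫ c = 1) :
    c = 1 := by
  let g : Multiplicative ℤ := Multiplicative.ofAdd 1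
  let Cm := charsDiag R ℤ
  let V : ∀ {X : Over (Spec (CommRingCat.of R))}, (X ⟶ Red.diag R (ZMod n)) → (X ⟶ Red.diag R (ZMod n)) →
      Γ(X.left, ⊤) := fun x y => Cm.ch (lift x y ≫ c) g
  let W : ∀ (B : Type u) [CommRing B] [Algebra R B], (Multiplicative (ZMod n) →* B) →
      (Multiplicative (ZMod n) →* B) → B := fun B _ _ χ ψ =>
    (Scheme.ΓSpecIso (CommRingCat.of B)).hom (V (P (R := R) χ) (P (R := R) ψ))
  have hW : ∀ (B : Type u) [CommRing B] [Algebra R B] (χ ψ : Multiplicative (ZMod n) →* B), W B χ ψ = 1 := by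
    refine pairing_eq_one W ?_ ?_ ?_ ?_ ?_ ?_
    · intro B B' _ _ _ _ h χ ψ
      show (Scheme.ΓSpecIso (CommRingCat.of B')).hom (Cm.ch (lift (P _) (P _) ≫ c) g) = _
      rw [P_comp, P_comp, ← comp_lift, Category.assoc, Cm.nat]
      exact ConcreteCategory.congr_hom (Scheme.ΓSpecIso_naturality (CommRingCat.ofHom h.toRingHom)) _
    · intro B _ _ χ χ' ψ
      simp only [W, V, P_mul, hl, Cm.mul]
      exact map_mul _ _ _
    · intro B _ _ χ ψ ψ'
      simp only [W, V, P_mul, hr, Cm.mul]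
      exact map_mul _ _ _
    · intro B _ _ ψ
      simp only [W, V, P_one, hl1, Cm.one]
      exact map_one _
    · intro B _ _ χ
      simp only [W, V, P_one, hr1, Cm.one]
      exact map_one _
    · intro B _ _ χ
      simp only [W, V, halt, Cm.one]
      exact map_one _
  have hgen : ∀ {X : Over (Spec (CommRingCat.of R))} (z : X ⟶ Red.diag R ℤ), Cm.ch z g = 1 → z = 1 := by
    intro X z hz
    refine Cm.inj fun a => ?_
    have h : Cm.ch z = 1 := by
      refine MonoidHom.ext_mint ?_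
      rw [MonoidHom.one_apply]
      exact hz
    rw [h, Cm.one, MonoidHom.one_apply]
  refine hgen c ?_
  -- the universal pair of points
  letI := (alg (Red.diag R (ZMod n) ⊗ Red.diag R (ZMod n))).toAlgebra
  let χ := (charsDiag R (ZMod n)).ch (fst (Red.diag R (ZMod n)) (Red.diag R (ZMod n)))
  let ψ := (charsDiag R (ZMod n)).ch (snd (Red.diag R (ZMod n)) (Red.diag R (ZMod n)))
  let t : Red.diag R (ZMod n) ⊗ Red.diag R (ZMod n) ⟶ CoactBr.sp R Γ((Red.diag R (ZMod n) ⊗ Red.diag R (ZMod n)).left, ⊤) := mk (RingHom.id _) fun _ => rfl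
  have hev : ∀ b : Γ((Red.diag R (ZMod n) ⊗ Red.diag R (ZMod n)).left, ⊤), t.left.appTop ((Scheme.ΓSpecIso (CommRingCat.of Γ((Red.diag R (ZMod n) ⊗ Red.diag R (ZMod n)).left, ⊤))).inv b) = b :=
    fun b => RingHom.congr_fun (ev_mk (T := Red.diag R (ZMod n) ⊗ Red.diag R (ZMod n)) (RingHom.id Γ((Red.diag R (ZMod n) ⊗ Red.diag R (ZMod n)).left, ⊤)) fun _ => rfl) b
  have h1 : t ≫ P χ = fst _ _ := (charsDiag R (ZMod n)).inj fun b => by
    rw [(charsDiag R (ZMod n)).nat, ch_P]
    exact hev _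
  have h2 : t ≫ P ψ = snd _ _ := (charsDiag R (ZMod n)).inj fun b => by
    rw [(charsDiag R (ZMod n)).nat, ch_P]
    exact hev _
  have h := hW Γ((Red.diag R (ZMod n) ⊗ Red.diag R (ZMod n)).left, ⊤) χ ψ
  have e : c = t ≫ lift (P χ) (P ψ) ≫ c := by
    rw [comp_lift_assoc, h1, h2, lift_fst_snd, Category.id_comp]
  rw [e, Cm.nat]
  have h' : Cm.ch (lift (P (R := R) χ) (P ψ) ≫ c) g = 1 := by
    exact (Scheme.ΓSpecIso _).commRingCatIsoToRingEquiv.injective (h.trans (map_one _).symm)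
  rw [h', map_one]

end Groth.Agent.MuExt15
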